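import Groth.Prelude.Def_AGF
import Groth.Agent.Lib.DiagGrp.Bihom
import Groth.Agent.Lib.FpqcQuot14.Quot


/-!
# The map between quotients by nested subgroups
-/

set_option autoImplicit false
set_option backward.isDefEq.respectTransparency false
set_option linter.style.haveILetI false

universe u

open CategoryTheory CategoryTheory.Limits MonoidalCategory CartesianMonoidalCategory MonObj GrpObj
open AlgebraicGeometry

namespace GrothLib.QuotMap19

variable {k : Type u} [Field k]

theorem lfp_orbitMap {G X : Over (Spec (CommRingCat.of k))} [LocallyOfFiniteType G.hom]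
    [LocallyOfFiniteType X.hom] (q : G ⟶ X) : LocallyOfFinitePresentation q.left := by
  haveI : IsLocallyNoetherian X.left := LocallyOfFiniteType.isLocallyNoetherian X.hom
  haveI : LocallyOfFiniteType q.left := by
    haveI : LocallyOfFiniteType (q.left ≫ X.hom) := by rw [Over.w q]; infer_instance
    exact locallyOfFiniteType_of_comp q.left X.hom
  exact inferInstance

variable {G H H' X X' Y : Over (Spec (CommRingCat.of k))} [GrpObj G] [GrpObj H] [GrpObj H']
  [LocallyOfFiniteType G.hom] [LocallyOfFiniteType H'.hom]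
  {i : H ⟶ G} {i' : H' ⟶ G} [IsMonHom i'] [Mono i'] {l : H ⟶ H'}
  {a : AlgGrp.Action G X} {o : 𝟙_ _ ⟶ X} {a' : AlgGrp.Action G X'} {o' : 𝟙_ _ ⟶ X'}
  {b : AlgGrp.Action H' Y} {y : 𝟙_ _ ⟶ Y}

/-- The projection from the fibre product of `X` and `G` over `X'` is isomorphic to `G ⊗ Y ⟶ G`. -/
theorem exists_property (hl : l ≫ i' = i) (hX : AGF.IsQuotient i X a o) (hX' : AGF.IsQuotient i' X' a' o')
    (hY : AGF.IsQuotient l Y b y) (qbar : X ⟶ X') (hq : a.orbitMap o ≫ qbar = a'.orbitMap o') :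
    ∃ e : (G ⊗ Y).left ≅ pullback qbar.left (a'.orbitMap o').left,
      e.hom ≫ pullback.snd qbar.left (a'.orbitMap o').left = (fst G Y).left := by
  obtain ⟨hXl, hXf, hXs, hpb⟩ := hX
  obtain ⟨-, -, -, hpb'⟩ := hX'
  obtain ⟨hYl, hYf, hYs, hpbY⟩ := hY
  haveI := hXl; haveI := hXf; haveI := hXs; haveI := hYl; haveI := hYf; haveI := hYs
  haveI := lfp_orbitMap (a.orbitMap o)
  haveI := lfp_orbitMap (b.orbitMap y)
  let q := a.orbitMap o
  let q' := a'.orbitMap o'
  let r := b.orbitMap y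
  have hc : ∀ {T : Over (Spec (CommRingCat.of k))} (g g' : T ⟶ G),
      g ≫ q = g' ≫ q ↔ ∃ h : T ⟶ H, g' = g * (h ≫ i) := fun g g' =>
    GrothLib.FpqcQuot14.comp_eq_iff hpb.flip g g'
  have hc' : ∀ {T : Over (Spec (CommRingCat.of k))} (g g' : T ⟶ G),
      g ≫ q' = g' ≫ q' ↔ ∃ h : T ⟶ H', g' = g * (h ≫ i') := fun g g' =>
    GrothLib.FpqcQuot14.comp_eq_iff hpb'.flip g g'
  have hcY : ∀ {T : Over (Spec (CommRingCat.of k))} (g g' : T ⟶ H'),
      g ≫ r = g' ≫ r ↔ ∃ h : T ⟶ H, g' = g * (h ≫ l) := fun g g' =>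
    GrothLib.FpqcQuot14.comp_eq_iff hpbY.flip g g'
  -- the fibre product
  let P : Over (Spec (CommRingCat.of k)) := Over.mk (pullback.snd qbar.left q'.left ≫ G.hom)
  let pr : P ⟶ G := Over.homMk (pullback.snd qbar.left q'.left)
  let px : P ⟶ X := Over.homMk (pullback.fst qbar.left q'.left) (by
    show pullback.fst qbar.left q'.left ≫ X.hom = pullback.snd qbar.left q'.left ≫ G.hom
    rw [← Over.w qbar, ← Over.w q', pullback.condition_assoc])
  have hP : IsPullback px pr qbar q' :=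
    IsPullback.of_map (Over.forget _) (Over.OverMorphism.ext pullback.condition)
      (IsPullback.of_hasPullback qbar.left q'.left)
  have Pext : ∀ {T : Over (Spec (CommRingCat.of k))} {f g : T ⟶ P},
      f ≫ px = g ≫ px → f ≫ pr = g ≫ pr → f = g := fun h1 h2 => hP.hom_ext h1 h2
  -- the cover of the fibre product
  let m : G ⊗ H' ⟶ G := (G ◁ i') ≫ μ[G]
  have hm : ∀ {T : Over (Spec (CommRingCat.of k))} (g : T ⟶ G) (h : T ⟶ H'),
      lift g h ≫ m = g * (h ≫ i') := fun g h => GrothLib.FpqcQuot14.lift_act g h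
  let c : G ⊗ H' ⟶ P := hP.lift (m ≫ q) (fst G H') (by rw [Category.assoc, hq]; exact hpb'.w.symm)
  have hcx : c ≫ px = m ≫ q := hP.lift_fst _ _ _
  have hcr : c ≫ pr = fst G H' := hP.lift_snd _ _ _
  have sq : IsPullback m c q px := by
    refine IsPullback.of_bot ?_ hcx.symm hP
    rw [hcr, hq]
    exact hpb'.flip
  have sqS := sq.map (Over.forget _)
  haveI : Flat c.left := MorphismProperty.of_isPullback (P := @Flat) sqS hXf
  haveI : Surjective c.left := MorphismProperty.of_isPullback (P := @Surjective) sqS hXs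
  haveI : LocallyOfFinitePresentation c.left :=
    MorphismProperty.of_isPullback (P := @LocallyOfFinitePresentation) sqS (lfp_orbitMap q)
  obtain ⟨δ, hδ⟩ := GrothLib.DiagGrp.exists_desc c (G ◁ r) (fun T u u' huu => by
    obtain ⟨g, x, rfl⟩ : ∃ g x, u = lift g x :=
      ⟨u ≫ fst G H', u ≫ snd G H', by apply CartesianMonoidalCategory.hom_ext <;> simp⟩
    obtain ⟨g', x', rfl⟩ : ∃ g x, u' = lift g x :=
      ⟨u' ≫ fst G H', u' ≫ snd G H', by apply CartesianMonoidalCategory.hom_ext <;> simp⟩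
    have e1 := congrArg (· ≫ pr) huu
    have e2 := congrArg (· ≫ px) huu
    simp only [Category.assoc, hcr, lift_fst] at e1
    simp only [Category.assoc, hcx, reassoc_of% hm g x, reassoc_of% hm g' x'] at e2
    subst e1
    obtain ⟨h, hh⟩ := (hc _ _).1 e2
    rw [lift_whiskerLeft, lift_whiskerLeft]
    congr 1
    refine (hcY _ _).2 ⟨h, ?_⟩
    rw [← hl, _root_.mul_assoc] at hh
    have h3 := mul_left_cancel hh
    rw [← cancel_mono i', MonObj.mul_comp, Category.assoc]
    exact h3)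
  obtain ⟨_, _⟩ := GrothLib.DiagGrp.epi_left_whiskerLeft r G
  haveI : LocallyOfFinitePresentation (G ◁ r).left :=
    MorphismProperty.of_isPullback (GrothLib.GrpSchField.whiskerLeft_snd_isPullback G r).flip (lfp_orbitMap r)
  obtain ⟨β, hβ⟩ := GrothLib.DiagGrp.exists_desc (G ◁ r) c (fun T u u' huu => by
    obtain ⟨g, x, rfl⟩ : ∃ g x, u = lift g x :=
      ⟨u ≫ fst G H', u ≫ snd G H', by apply CartesianMonoidalCategory.hom_ext <;> simp⟩
    obtain ⟨g', x', rfl⟩ : ∃ g x, u' = lift g x :=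
      ⟨u' ≫ fst G H', u' ≫ snd G H', by apply CartesianMonoidalCategory.hom_ext <;> simp⟩
    rw [lift_whiskerLeft, lift_whiskerLeft] at huu
    have e1 := congrArg (· ≫ fst G Y) huu
    have e2 := congrArg (· ≫ snd G Y) huu
    simp only [lift_fst] at e1
    simp only [lift_snd] at e2
    subst e1
    obtain ⟨h, rfl⟩ := (hcY _ _).1 e2
    refine Pext ?_ ?_
    · simp only [Category.assoc, hcx, reassoc_of% hm]
      refine (hc _ _).2 ⟨h, ?_⟩
      rw [MonObj.mul_comp, Category.assoc, hl, _root_.mul_assoc]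
    · simp only [Category.assoc, hcr, lift_fst])
  haveI : Epi c.left := Flat.epi_of_flat_of_surjective _
  haveI : Epi (G ◁ r).left := Flat.epi_of_flat_of_surjective _
  have e1 : β ≫ δ = 𝟙 _ := by
    refine Over.OverMorphism.ext ?_
    rw [← cancel_epi (G ◁ r).left, ← Over.comp_left, reassoc_of% hβ, hδ]
    exact (Category.comp_id _).symm
  have e2 : δ ≫ β = 𝟙 _ := by
    refine Over.OverMorphism.ext ?_
    rw [← cancel_epi c.left, ← Over.comp_left, reassoc_of% hδ, hβ]
    exact (Category.comp_id _).symm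
  have e3 : β ≫ pr = fst G Y := by
    refine Over.OverMorphism.ext ?_
    rw [← cancel_epi (G ◁ r).left, ← Over.comp_left, ← Over.comp_left, reassoc_of% hβ, hcr, whiskerLeft_fst]
  exact ⟨(Over.forget _).mapIso ⟨β, δ, e1, e2⟩, congrArg (fun t => t.left) e3⟩

end GrothLib.QuotMap19
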